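import Cfsg.Agent.H421.GU.Orb
import Cfsg.Agent.H531.GU.Neck
import Cfsg.Agent.H941.GLn.FamOne

/-!
# S4537, R4: truncation to the `p`-regular types (helper501)

* `tauU Q M p u` : average over the `p`-characters multiplied by `u` (`tauP` for `u = 1`, `tau1` for `u = p`);
* `PT Q p u lam` : `x ^ u` is `p`-regular for all eigenvalues `x` of the type `lam`;
* `evR_tauU` : `evR (tauU x) lam = evR x lam` if `PT Q p u lam`, `0` otherwise.
-/

set_option autoImplicit false
set_option linter.unusedSectionVars false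

namespace Cfsg.Agent.H501.GU

open Cfsg.Agent.H615.GU Cfsg.Agent.H577.GLB.Std Cfsg.Agent.H421.GU
open Cfsg.Agent.H614.GLn.RSt (mem_Eta zero_mem_Eta Eta_card_pos Eta_add Eta_neg torZ_add)
open Cfsg.Agent.H531.GU (uu uu_apply pp nwt nwt_zero nwt_succ)

/-! ### local operators are local -/

section loc

/-- `(A f) l` depends only on the values of `f` at the partitions of size `l.size - m` -/
def Lcl (m : ℕ) (A : Module.End ℂ (Col → ℂ)) : Prop :=
  ∀ (f : Col → ℂ) (l : Col), (∀ k : Col, k.size + m = l.size → f k = 0) → A f l = 0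

theorem Lcl_uu (t : ℂ) (j : ℕ) : Lcl j (uu t j) := by
  classical
  intro f l h
  rw [uu_apply]
  refine Finset.sum_eq_zero fun c hc => ?_
  rw [h c (Finset.mem_filter.1 hc).2, mul_zero]

theorem Lcl.mul {a b : ℕ} {A B : Module.End ℂ (Col → ℂ)} (hA : Lcl a A) (hB : Lcl b B) : Lcl (a + b) (A * B) := by
  intro f l h
  rw [Module.End.mul_apply]
  refine hA _ _ fun k hk => hB _ _ fun k' hk' => h k' (by omega)

theorem Lcl_nwt {u : ℕ → Module.End ℂ (Col → ℂ)} (hu : ∀ j, Lcl j (u j)) (m : ℕ) : Lcl m (nwt u m) := by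
  induction m using Nat.strong_induction_on with
  | _ m ih =>
    cases m with
    | zero =>
      intro f l _
      rw [nwt_zero, LinearMap.zero_apply]
      rfl
    | succ m =>
      intro f l h
      rw [nwt_succ, LinearMap.sub_apply, Pi.sub_apply, LinearMap.smul_apply, Pi.smul_apply, hu (m + 1) f l h,
        smul_zero, LinearMap.sum_apply, Finset.sum_apply, Finset.sum_eq_zero, sub_zero]
      intro r hr
      have hr' := Finset.mem_range.1 hr
      have h1 := (ih r hr').mul (hu (m + 1 - r))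
      rw [Nat.add_sub_cancel' hr'.le] at h1
      exact h1 f l h

theorem Lcl_pp (t : ℂ) (m : ℕ) : Lcl m (pp t m) := Lcl_nwt (Lcl_uu t) m

theorem Lcl.congr {m : ℕ} {A : Module.End ℂ (Col → ℂ)} (hA : Lcl m A) {f g : Col → ℂ} {l : Col}
    (h : ∀ k : Col, k.size + m = l.size → f k = g k) : A f l = A g l := by
  have h1 := hA (f - g) l fun k hk => by rw [Pi.sub_apply, h k hk, sub_self]
  rw [map_sub, Pi.sub_apply, sub_eq_zero] at h1
  exact h1

end loc

/-! ### averages over the `p`-characters -/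

section avg

variable {K : Type*} [Field K] {θ : K →*₀ ℂ} {Q : ℤ} {M : ℕ} [NeZero M] {k p : ℕ}

theorem expoZ_zero (k : ℕ) : expoZ Q M k (0 : ZMod M) = 0 := by
  rw [expoZ, ZMod.val_zero, Nat.cast_zero, zero_mul, Int.zero_ediv]

theorem torZ_zero (k : ℕ) : TorZ Q M k (0 : ZMod M) := by rw [TorZ, mul_zero]

theorem torZ_nat (u : ℕ) {c : ZMod M} (h : TorZ Q M k c) : TorZ Q M k ((u : ZMod M) * c) := by
  rw [TorZ] at h ⊢
  rw [mul_left_comm, h, mul_zero]

theorem pow_expoZ_nat {w : Kˣ} (hw : w ^ (Q ^ k) = w) {c : ZMod M} (h : TorZ Q M k c) (u : ℕ) :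
    w ^ expoZ Q M k ((u : ZMod M) * c) = (w ^ expoZ Q M k c) ^ u := by
  induction u with
  | zero => rw [Nat.cast_zero, zero_mul, expoZ_zero, zpow_zero, pow_zero]
  | succ u ih => rw [Nat.cast_succ, add_mul, one_mul, pow_expoZ_add hw (torZ_nat u h) h, ih, pow_succ]

/-- the characters of `T_k` given by the `p`-characters separate the `p`-parts -/
theorem exists_eta (hp : p.Prime) (hk : (Q ^ k - 1 : ℤ) ∣ (M : ℤ)) {w : Kˣ} (hw : w ^ (Q ^ k) = w)
    (hn : ¬ (orderOf w).Coprime p) : ∃ η ∈ Eta Q M p k, w ^ expoZ Q M k η ≠ 1 := by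
  set c : ZMod M := (((1 * ((M : ℤ) / (Q ^ k - 1)) : ℤ)) : ZMod M) with hc
  have h0 : (Q ^ k - 1) * ((M : ℤ) / (Q ^ k - 1)) = M := Int.mul_ediv_cancel' hk
  have hT : TorZ Q M k c := by
    rw [TorZ, hc]
    have h1 : ((Q : ZMod M) ^ k - 1) * (((1 * ((M : ℤ) / (Q ^ k - 1)) : ℤ)) : ZMod M) =
        (((Q ^ k - 1) * (1 * ((M : ℤ) / (Q ^ k - 1))) : ℤ) : ZMod M) := by push_cast; ring
    rw [h1, ZMod.intCast_zmod_eq_zero_iff_dvd]
    exact ⟨1, by linear_combination h0⟩
  have hwc : w ^ expoZ Q M k c = w := by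
    have h1 := pow_of_level hw (H531.GU.expoZ_intCast (Q := Q) hk 1)
    rwa [zpow_one] at h1
  obtain ⟨a, r, hr, hord⟩ := Nat.exists_eq_pow_mul_and_not_dvd (addOrderOf_pos c).ne' p hp.ne_one
  refine ⟨(r : ZMod M) * c, mem_Eta.2 ⟨torZ_nat r hT, a, ?_⟩, ?_⟩
  · have h1 := addOrderOf_nsmul_eq_zero c
    rw [hord, nsmul_eq_mul, Nat.cast_mul, Nat.cast_pow, mul_assoc] at h1
    exact h1
  · rw [pow_expoZ_nat hw hT, hwc]
    intro h
    have h1 : orderOf w ∣ r := orderOf_dvd_of_pow_eq_one h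
    apply hn
    exact Nat.Coprime.coprime_dvd_left h1 ((Nat.Prime.coprime_iff_not_dvd hp).2 hr).symm

theorem theta_ne_one (hθ : Function.Injective θ) {y : Kˣ} (hy : y ≠ 1) : θ (y : K) ≠ 1 := by
  intro h
  apply hy
  apply Units.ext
  apply hθ
  rw [h, Units.val_one, map_one]

/-- the sum over the `p`-characters -/
theorem sum_eta (hθ : Function.Injective θ) (hp : p.Prime) (hk : (Q ^ k - 1 : ℤ) ∣ (M : ℤ)) {w : Kˣ}
    (hw : w ^ (Q ^ k) = w) : ∑ η ∈ Eta Q M p k, θ ((w ^ expoZ Q M k η : Kˣ) : K) =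
      open Classical in if (orderOf w).Coprime p then ((Eta Q M p k).card : ℂ) else 0 := by
  classical
  split_ifs with hreg
  · have h1 : ∀ η ∈ Eta Q M p k, θ ((w ^ expoZ Q M k η : Kˣ) : K) = 1 := by
      intro η hη
      obtain ⟨hT, j, hj⟩ := mem_Eta.1 hη
      have h2 : (w ^ expoZ Q M k η) ^ (p ^ j) = 1 := by
        rw [← pow_expoZ_nat hw hT, Nat.cast_pow, hj, expoZ_zero, zpow_zero]
      have h3 : orderOf (w ^ expoZ Q M k η) ∣ orderOf w :=
        orderOf_dvd_of_mem_zpowers (Subgroup.mem_zpowers_iff.2 ⟨_, rfl⟩)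
      have h4 : orderOf (w ^ expoZ Q M k η) = 1 :=
        Nat.Coprime.eq_one_of_dvd ((Nat.Coprime.coprime_dvd_left h3 hreg).pow_right j)
          (orderOf_dvd_of_pow_eq_one h2)
      rw [orderOf_eq_one_iff.1 h4, Units.val_one, map_one]
    rw [Finset.sum_congr rfl h1, Finset.sum_const, nsmul_eq_mul, mul_one]
  · obtain ⟨η₀, hη₀, hne⟩ := exists_eta hp hk hw hreg
    have h1 : ∑ η ∈ Eta Q M p k, θ ((w ^ expoZ Q M k (η + η₀) : Kˣ) : K) =
        ∑ η ∈ Eta Q M p k, θ ((w ^ expoZ Q M k η : Kˣ) : K) := by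
      refine Finset.sum_equiv (Equiv.addRight η₀) (fun η => ⟨fun h => Eta_add h hη₀, fun h => ?_⟩) fun η _ => rfl
      have h2 := Eta_add h (Eta_neg hη₀)
      rwa [Equiv.coe_addRight, add_neg_cancel_right] at h2
    have h2 : ∑ η ∈ Eta Q M p k, θ ((w ^ expoZ Q M k (η + η₀) : Kˣ) : K) =
        (∑ η ∈ Eta Q M p k, θ ((w ^ expoZ Q M k η : Kˣ) : K)) * θ ((w ^ expoZ Q M k η₀ : Kˣ) : K) := by
      rw [Finset.sum_mul]
      refine Finset.sum_congr rfl fun η hη => ?_
      rw [pow_expoZ_add hw (mem_Eta.1 hη).1 (mem_Eta.1 hη₀).1, Units.val_mul, map_mul]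
    rw [h2] at h1
    by_contra h3
    exact theta_ne_one hθ hne (mul_left_cancel₀ h3 (by rw [h1, mul_one]))

theorem zpow_pow_comm {G : Type*} [Group G] (a : G) (e : ℤ) (u : ℕ) : (a ^ e) ^ u = (a ^ u) ^ e := by
  rw [← zpow_natCast, ← zpow_mul, mul_comm, zpow_mul, zpow_natCast]

theorem orderOf_pow_Q {y : Kˣ} (hy : y ^ (Q ^ k) = y) {i : ℕ} (hi : i ≤ k) : orderOf (y ^ (Q ^ i)) = orderOf y := by
  apply Nat.dvd_antisymm
  · exact orderOf_dvd_of_mem_zpowers (Subgroup.mem_zpowers_iff.2 ⟨_, rfl⟩)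
  · refine orderOf_dvd_of_mem_zpowers (Subgroup.mem_zpowers_iff.2 ⟨Q ^ (k - i), ?_⟩)
    rw [← zpow_mul, ← pow_add, Nat.add_sub_cancel' hi, hy]

/-- the sum over the `p`-characters of the orbit sums -/
theorem sum_thO [Finite K] (hM : Nat.card Kˣ = M) (hQ : IsUnit (Q : ZMod M)) (hθ : Function.Injective θ)
    (hp : p.Prime) (hk0 : 0 < k) (hk : (Q ^ k - 1 : ℤ) ∣ (M : ℤ)) {c : ZMod M} (hc : TorZ Q M k c) (u : ℕ) {x : Kˣ}
    (hx : dOrb K Q (Quotient.mk (orbSetoid K Q) x) ∣ k) :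
    ∑ η ∈ Eta Q M p k, thO θ Q M k (c + (u : ZMod M) * η) (Quotient.mk (orbSetoid K Q) x) =
      open Classical in if (orderOf (x ^ u)).Coprime p then
        ((Eta Q M p k).card : ℂ) * thO θ Q M k c (Quotient.mk (orbSetoid K Q) x) else 0 := by
  classical
  have hxk : x ^ (Q ^ k) = x := (dOrb_dvd_iff hM hQ x k).1 hx
  have hlev : ∀ i, (x ^ (Q ^ i)) ^ (Q ^ k) = x ^ (Q ^ i) := by
    intro i
    rw [← zpow_mul, mul_comm, zpow_mul, hxk]
  have hle : ∀ i ∈ Finset.range (dOrb K Q (Quotient.mk (orbSetoid K Q) x)), i ≤ k := by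
    intro i hi
    have h1 := Finset.mem_range.1 hi
    have h2 := Nat.le_of_dvd hk0 hx
    omega
  simp only [thO_mk hM hQ]
  rw [Finset.sum_comm]
  have h1 : ∀ i ∈ Finset.range (dOrb K Q (Quotient.mk (orbSetoid K Q) x)),
      ∑ η ∈ Eta Q M p k, θ (((x ^ (Q ^ i)) ^ expoZ Q M k (c + (u : ZMod M) * η) : Kˣ) : K) =
        θ (((x ^ (Q ^ i)) ^ expoZ Q M k c : Kˣ) : K) *
          if (orderOf (x ^ u)).Coprime p then ((Eta Q M p k).card : ℂ) else 0 := by
    intro i hi
    have hu : (x ^ (Q ^ i)) ^ u = (x ^ u) ^ (Q ^ i) := by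
      rw [← zpow_natCast, ← zpow_natCast, ← zpow_mul, ← zpow_mul, mul_comm]
    have hw : ((x ^ (Q ^ i)) ^ u) ^ (Q ^ k) = (x ^ (Q ^ i)) ^ u := by
      rw [← zpow_natCast, ← zpow_mul, mul_comm, zpow_mul, hlev]
    have hxu : (x ^ u) ^ (Q ^ k) = x ^ u := by
      rw [← zpow_natCast, ← zpow_mul, mul_comm, zpow_mul, hxk]
    have h2 := sum_eta (Q := Q) (M := M) (k := k) hθ hp hk hw
    rw [hu, orderOf_pow_Q hxu (hle i hi), ← hu] at h2
    rw [← h2, Finset.mul_sum]
    refine Finset.sum_congr rfl fun η hη => ?_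
    rw [pow_expoZ_add (hlev i) hc (torZ_nat u (mem_Eta.1 hη).1), pow_expoZ_nat (hlev i) (mem_Eta.1 hη).1,
      Units.val_mul, map_mul]
    rw [zpow_pow_comm]
  rw [Finset.sum_congr rfl h1, ← Finset.sum_mul]
  split_ifs
  · rw [mul_comm]
  · rw [mul_zero]

end avg

/-! ### the theorem -/

section main

variable {K : Type*} [Field K] {θ : K →*₀ ℂ} {Q : ℤ} {M : ℕ} {p : ℕ}

/-- `x ^ u` is `p`-regular for all eigenvalues `x` of `lam` -/
def PT (Q : ℤ) (p u : ℕ) (lam : Ty (Orb K Q)) : Prop :=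
  ∀ x : Kˣ, lam (Quotient.mk (orbSetoid K Q) x) ≠ 0 → (orderOf (x ^ u)).Coprime p

theorem pt_one {lam : Ty (Orb K Q)} : PT Q p 1 lam ↔ PregT Q p lam := by
  unfold PT PregT
  simp only [pow_one]

theorem coprime_pow_iff {G : Type*} [Group G] [Finite G] (hp : p.Prime) (x : G) :
    (orderOf (x ^ p)).Coprime p ↔ ¬ p ^ 2 ∣ orderOf x := by
  have hpos := orderOf_pos x
  by_cases h : p ∣ orderOf x
  · obtain ⟨r, hr⟩ := h
    have h1 : orderOf (x ^ p) = r := by
      rw [orderOf_pow_of_dvd hp.ne_zero ⟨r, hr⟩, hr, Nat.mul_div_cancel_left _ hp.pos]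
    rw [h1, hr, sq, Nat.mul_dvd_mul_iff_left hp.pos, Nat.coprime_comm, Nat.Prime.coprime_iff_not_dvd hp]
  · have h1 : (orderOf x).Coprime p := ((Nat.Prime.coprime_iff_not_dvd hp).2 h).symm
    refine ⟨fun _ h2 => h ((dvd_pow_self p two_ne_zero).trans h2), fun _ => ?_⟩
    rw [h1.orderOf_pow]
    exact h1

theorem pt_prime [Finite K] (hp : p.Prime) {lam : Ty (Orb K Q)} : PT Q p p lam ↔
    ∀ x : Kˣ, lam (Quotient.mk (orbSetoid K Q) x) ≠ 0 → ¬ p ^ 2 ∣ orderOf x := by
  unfold PT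
  exact forall_congr' fun x => imp_congr_right fun _ => coprime_pow_iff hp x

/-- average over the `p`-characters multiplied by `u` -/
noncomputable def tauU (Q : ℤ) (M p u : ℕ) [NeZero M] : RS M →ₐ[ℂ] RS M :=
  MvPolynomial.aeval fun v : Var M => ((Eta Q M p v.1).card : ℂ)⁻¹ •
    ∑ η ∈ Eta Q M p v.1, rv Q M v.1 (v.2 + (u : ZMod M) * η)

variable [NeZero M]

theorem tauU_one : tauU Q M p 1 = tauP Q M p := by
  unfold tauU tauP
  simp only [Nat.cast_one, one_mul]

theorem deg_le (d : Orb K Q → ℕ) (lam : Ty (Orb K Q)) (o : Orb K Q) : d o * (lam o).size ≤ tdeg d lam := by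
  by_cases h : o ∈ lam.support
  · exact Finset.single_le_sum (f := fun i => d i * (lam i).size) (fun _ _ => Nat.zero_le _) h
  · have h1 : lam o = 0 := Finsupp.notMem_support_iff.1 h
    rw [h1, Col.size_zero, mul_zero]
    exact Nat.zero_le _

theorem deg_update_le (d : Orb K Q → ℕ) (lam : Ty (Orb K Q)) (o : Orb K Q) {c : Col} (hc : c.size ≤ (lam o).size) :
    tdeg d (lam.update o c) ≤ tdeg d lam := by
  classical
  have h1 : (lam.update o c).support ⊆ insert o lam.support := by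
    intro i hi
    rw [Finset.mem_insert]
    by_contra h
    push Not at h
    rw [Finsupp.mem_support_iff, H531.GU.update_ne lam h.1.symm] at hi
    exact h.2 (Finsupp.mem_support_iff.2 hi)
  rw [H315.GU.tdeg_eq_sum d h1, H315.GU.tdeg_eq_sum d (Finset.subset_insert o lam.support)]
  refine Finset.sum_le_sum fun i _ => Nat.mul_le_mul_left _ ?_
  by_cases hi : i = o
  · rw [hi, H531.GU.update_same]
    exact hc
  · rw [H531.GU.update_ne lam (Ne.symm hi)]

theorem Pop_apply [Finite K] (k : ℕ) (hk : 0 < k) (c : ZMod M) (f : Ty (Orb K Q) → ℂ) (lam : Ty (Orb K Q)) :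
    Pop θ Q M k c f lam = ∑ o : Orb K Q, open Classical in if dOrb K Q o ∣ k then
      thO θ Q M k c o * pp ((Q : ℂ) ^ dOrb K Q o) (k / dOrb K Q o) (fun c' => f (lam.update o c')) (lam o) else 0 := by
  classical
  rw [H531.GU.Pop_eq, LinearMap.sum_apply, Finset.sum_apply]
  refine Finset.sum_congr rfl fun o _ => ?_
  by_cases h : dOrb K Q o ∣ k
  · rw [if_pos ⟨hk, h⟩, if_pos h, LinearMap.smul_apply, Pi.smul_apply, smul_eq_mul, H531.GU.lft_apply]
  · rw [if_neg fun h' => h h'.2, if_neg h]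
    rfl

theorem cop_of_mk [Finite K] (hM : Nat.card Kˣ = M) (hQ : IsUnit (Q : ZMod M)) {x y : Kˣ}
    (h : Quotient.mk (orbSetoid K Q) y = Quotient.mk (orbSetoid K Q) x) {u : ℕ} (hx : (orderOf (x ^ u)).Coprime p) :
    (orderOf (y ^ u)).Coprime p := by
  obtain ⟨i, rfl⟩ := (mk_eq_iff hM hQ).1 h
  refine Nat.Coprime.coprime_dvd_left (orderOf_dvd_of_mem_zpowers (Subgroup.mem_zpowers_iff.2 ⟨Q ^ i, ?_⟩)) hx
  rw [zpow_pow_comm]

/-- the average of the cuspidal operators over the `p`-characters -/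
theorem step [Finite K] (hM : Nat.card Kˣ = M) (hQ : IsUnit (Q : ZMod M)) (hθ : Function.Injective θ)
    (hp : p.Prime) {N : ℕ} (hdvd : ∀ k, 0 < k → k ≤ N → (Q ^ k - 1 : ℤ) ∣ (M : ℤ)) (u : ℕ) {k : ℕ} (hk : 0 < k)
    {c : ZMod M} (hc : TorZ Q M k c) {f g : Ty (Orb K Q) → ℂ}
    (hfg : ∀ lam, tdeg (dOrb K Q) lam ≤ N → f lam = open Classical in if PT Q p u lam then g lam else 0)
    (lam : Ty (Orb K Q)) (hl : tdeg (dOrb K Q) lam ≤ N) :
    ((Eta Q M p k).card : ℂ)⁻¹ * ∑ η ∈ Eta Q M p k, Pop θ Q M k (c + (u : ZMod M) * η) f lam =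
      open Classical in if PT Q p u lam then Pop θ Q M k c g lam else 0 := by
  classical
  have hne : ((Eta Q M p k).card : ℂ) ≠ 0 := Nat.cast_ne_zero.2 (Eta_card_pos k).ne'
  simp only [Pop_apply (θ := θ) (Q := Q) (M := M) k hk]
  rw [Finset.sum_comm, Finset.mul_sum]
  -- the terms with `k` too large vanish
  have hvan : ∀ (o : Orb K Q) (h : Ty (Orb K Q) → ℂ), dOrb K Q o ∣ k → (lam o).size < k / dOrb K Q o →
      pp ((Q : ℂ) ^ dOrb K Q o) (k / dOrb K Q o) (fun c' => h (lam.update o c')) (lam o) = 0 := by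
    intro o h _ hlt
    exact Lcl_pp _ _ _ _ fun k' hk' => by omega
  have hbig : ∀ o : Orb K Q, dOrb K Q o ∣ k → ¬ (lam o).size < k / dOrb K Q o → k ≤ N := by
    intro o ho hlt
    have h1 := deg_le (dOrb K Q) lam o
    have h2 : dOrb K Q o * (k / dOrb K Q o) = k := Nat.mul_div_cancel' ho
    have h3 : dOrb K Q o * (k / dOrb K Q o) ≤ dOrb K Q o * (lam o).size := Nat.mul_le_mul_left _ (not_lt.1 hlt)
    omega
  have hterm : ∀ o : Orb K Q, ((Eta Q M p k).card : ℂ)⁻¹ * ∑ η ∈ Eta Q M p k, (if dOrb K Q o ∣ k then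
      thO θ Q M k (c + (u : ZMod M) * η) o *
        pp ((Q : ℂ) ^ dOrb K Q o) (k / dOrb K Q o) (fun c' => f (lam.update o c')) (lam o) else 0) =
      if PT Q p u lam then (if dOrb K Q o ∣ k then thO θ Q M k c o *
        pp ((Q : ℂ) ^ dOrb K Q o) (k / dOrb K Q o) (fun c' => g (lam.update o c')) (lam o) else 0) else 0 := by
    intro o
    by_cases ho : dOrb K Q o ∣ k
    swap
    · simp only [if_neg ho, Finset.sum_const_zero, mul_zero, ite_self]
    simp only [if_pos ho]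
    by_cases hlt : (lam o).size < k / dOrb K Q o
    · simp only [hvan o _ ho hlt, mul_zero, Finset.sum_const_zero, ite_self]
    have hkN := hbig o ho hlt
    rw [← Finset.sum_mul]
    induction o using Quotient.inductionOn with
    | _ x =>
      rw [sum_thO hM hQ hθ hp hk (hdvd k hk hkN) hc u ho]
      set o : Orb K Q := Quotient.mk (orbSetoid K Q) x with hodef
      have hpos : 0 < k / dOrb K Q o := Nat.div_pos (Nat.le_of_dvd hk ho) (dOrb_pos hM hQ o)
      -- the function `f` near `lam`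
      have hf : pp ((Q : ℂ) ^ dOrb K Q o) (k / dOrb K Q o) (fun c' => f (lam.update o c')) (lam o) =
          pp ((Q : ℂ) ^ dOrb K Q o) (k / dOrb K Q o)
            (fun c' => if PT Q p u (lam.update o c') then g (lam.update o c') else 0) (lam o) :=
        (Lcl_pp _ _).congr fun c' hc' => hfg _ ((deg_update_le _ lam o (by omega)).trans hl)
      by_cases hreg : (orderOf (x ^ u)).Coprime p
      · rw [if_pos hreg, hf]
        by_cases hPT : PT Q p u lam
        · have h1 : ∀ c' : Col, PT Q p u (lam.update o c') := by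
            intro c' y hy
            by_cases hyo : Quotient.mk (orbSetoid K Q) y = o
            · exact cop_of_mk hM hQ hyo hreg
            · rw [H531.GU.update_ne lam (Ne.symm hyo)] at hy
              exact hPT y hy
          simp only [if_pos (h1 _), if_pos hPT]
          rw [← mul_assoc, ← mul_assoc, inv_mul_cancel₀ hne, one_mul]
        · have h1 : ∀ c' : Col, ¬ PT Q p u (lam.update o c') := by
            intro c' h
            apply hPT
            intro y hy
            by_cases hyo : Quotient.mk (orbSetoid K Q) y = o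
            · exact cop_of_mk hM hQ hyo hreg
            · exact h y (by rwa [H531.GU.update_ne lam (Ne.symm hyo)])
          simp only [if_neg (h1 _), if_neg hPT]
          have h2 : pp ((Q : ℂ) ^ dOrb K Q o) (k / dOrb K Q o) (fun _ => 0) (lam o) = 0 :=
            Lcl_pp _ _ _ _ fun _ _ => rfl
          rw [h2, mul_zero, mul_zero]
      · rw [if_neg hreg, zero_mul, mul_zero]
        by_cases hPT : PT Q p u lam
        · have h1 : lam o = 0 := by
            by_contra h
            exact hreg (hPT x h)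
          exfalso
          apply hlt
          rw [h1, Col.size_zero]
          exact hpos
        · rw [if_neg hPT]
  rw [Finset.sum_congr rfl fun o _ => hterm o]
  split_ifs
  · rfl
  · rw [Finset.sum_const_zero]

theorem evR_rv_mul [Finite K] (hM : Nat.card Kˣ = M) (hQ : IsUnit (Q : ZMod M))
    (hmul : ∀ (v : Var M) (x : RS M), evR θ Q M (MvPolynomial.X v * x) = Pop θ Q M v.1 v.2 (evR θ Q M x)) {k : ℕ}
    (hk : 0 < k) {c : ZMod M} (hc : TorZ Q M k c) (x : RS M) :
    evR θ Q M (rv Q M k c * x) = Pop θ Q M k c (evR θ Q M x) := by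
  rw [rv, if_pos ⟨hk, hc⟩, hmul, Pop_canon hM hQ hc]

/-- **R4**, general form. -/
theorem evR_tauU [Finite K] (hM : Nat.card Kˣ = M) (hQ : IsUnit (Q : ZMod M)) (hθ : Function.Injective θ)
    (hp : p.Prime) {N : ℕ} (hdvd : ∀ k, 0 < k → k ≤ N → (Q ^ k - 1 : ℤ) ∣ (M : ℤ))
    (hmul : ∀ (v : Var M) (x : RS M), evR θ Q M (MvPolynomial.X v * x) = Pop θ Q M v.1 v.2 (evR θ Q M x)) (u : ℕ)
    {x : RS M} (hx : x ∈ GenR Q M) (lam : Ty (Orb K Q)) (hl : tdeg (dOrb K Q) lam ≤ N) :
    evR θ Q M (tauU Q M p u x) lam = open Classical in if PT Q p u lam then evR θ Q M x lam else 0 := by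
  classical
  rw [GenR, ← Subalgebra.mem_toSubmodule, Algebra.adjoin_eq_span] at hx
  induction hx using Submodule.span_induction generalizing lam with
  | zero => simp
  | add x y _ _ hx hy =>
    rw [map_add, map_add, map_add, Pi.add_apply, Pi.add_apply, hx lam hl, hy lam hl]
    split_ifs
    · rfl
    · rw [add_zero]
  | smul c x _ hx =>
    rw [map_smul, map_smul, map_smul, Pi.smul_apply, Pi.smul_apply, hx lam hl]
    split_ifs
    · rfl
    · rw [smul_zero]
  | mem x hx =>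
    induction hx using Submonoid.closure_induction_left generalizing lam with
    | one =>
      rw [map_one, evR_one]
      split_ifs with h
      · rfl
      · rw [vac, if_neg]
        rintro rfl
        exact h fun y hy => absurd rfl hy
    | mul_left y hy x _ ih =>
      obtain ⟨⟨k, c⟩, rfl⟩ := hy
      show evR θ Q M (tauU Q M p u (rv Q M k c * x)) lam = if PT Q p u lam then evR θ Q M (rv Q M k c * x) lam else 0
      rw [map_mul]
      by_cases h : 0 < k ∧ TorZ Q M k c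
      · have hcan : TorZ Q M k (canon Q M c) := by
          obtain ⟨j, hj⟩ := H614.GLn.RSt.sameZ_canon (Q := Q) c
          rw [hj]
          exact H614.GLn.RSt.torZ_mul k h.2 j
        have h1 : rv Q M k c = MvPolynomial.X (k, canon Q M c) := by rw [rv, if_pos h]
        have h2 : tauU Q M p u (rv Q M k c) = ((Eta Q M p k).card : ℂ)⁻¹ •
            ∑ η ∈ Eta Q M p k, rv Q M k (canon Q M c + (u : ZMod M) * η) := by
          rw [h1, tauU, MvPolynomial.aeval_X]
        have h3 : evR θ Q M (tauU Q M p u (rv Q M k c) * tauU Q M p u x) lam =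
            ((Eta Q M p k).card : ℂ)⁻¹ * ∑ η ∈ Eta Q M p k, Pop θ Q M k (canon Q M c + (u : ZMod M) * η)
              (evR θ Q M (tauU Q M p u x)) lam := by
          rw [h2, smul_mul_assoc, Finset.sum_mul, map_smul, map_sum, Pi.smul_apply, Finset.sum_apply, smul_eq_mul]
          congr 1
          refine Finset.sum_congr rfl fun η hη => ?_
          rw [evR_rv_mul hM hQ hmul h.1 (torZ_add k hcan (torZ_nat u (mem_Eta.1 hη).1))]
        rw [h3, step hM hQ hθ hp hdvd u h.1 hcan ih lam hl, h1, hmul]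
      · have h1 : rv Q M k c = 0 := by rw [rv, if_neg h]
        rw [h1, map_zero, zero_mul, zero_mul, map_zero, Pi.zero_apply, ite_self]

/-- **R4** -/
theorem evR_tauP [Finite K] (hM : Nat.card Kˣ = M) (hQ : IsUnit (Q : ZMod M)) (hθ : Function.Injective θ)
    (hp : p.Prime) {N : ℕ} (hdvd : ∀ k, 0 < k → k ≤ N → (Q ^ k - 1 : ℤ) ∣ (M : ℤ))
    (hmul : ∀ (v : Var M) (x : RS M), evR θ Q M (MvPolynomial.X v * x) = Pop θ Q M v.1 v.2 (evR θ Q M x))
    {x : RS M} (hx : x ∈ GenR Q M) (lam : Ty (Orb K Q)) (hl : tdeg (dOrb K Q) lam ≤ N) :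
    evR θ Q M (tauP Q M p x) lam = open Classical in if PregT Q p lam then evR θ Q M x lam else 0 := by
  classical
  rw [← tauU_one, evR_tauU hM hQ hθ hp hdvd hmul 1 hx lam hl]
  simp only [pt_one]

/-- the version for the elements whose order is not divisible by `p ^ 2` -/
theorem evR_tau1 [Finite K] (hM : Nat.card Kˣ = M) (hQ : IsUnit (Q : ZMod M)) (hθ : Function.Injective θ)
    (hp : p.Prime) {N : ℕ} (hdvd : ∀ k, 0 < k → k ≤ N → (Q ^ k - 1 : ℤ) ∣ (M : ℤ))
    (hmul : ∀ (v : Var M) (x : RS M), evR θ Q M (MvPolynomial.X v * x) = Pop θ Q M v.1 v.2 (evR θ Q M x))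
    {x : RS M} (hx : x ∈ GenR Q M) (lam : Ty (Orb K Q)) (hl : tdeg (dOrb K Q) lam ≤ N) :
    evR θ Q M (H941.GLn.FamOne.tau1 Q M p x) lam = open Classical in
      if (∀ y : Kˣ, lam (Quotient.mk (orbSetoid K Q) y) ≠ 0 → ¬ p ^ 2 ∣ orderOf y) then evR θ Q M x lam else 0 := by
  classical
  have h1 : H941.GLn.FamOne.tau1 Q M p = tauU Q M p p := rfl
  rw [h1, evR_tauU hM hQ hθ hp hdvd hmul p hx lam hl]
  simp only [pt_prime hp]

end main

end Cfsg.Agent.H501.GU
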